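import Groth.Agent.H66.Integral
import Groth.Prelude.Def_GLin
import Mathlib.RingTheory.Spectrum.Prime.Topology
import Mathlib.RingTheory.Localization.Ideal

/-!
Separation of closed invariant sets by invariant functions, for an action with a total integral.
-/

set_option autoImplicit false
set_option linter.unusedSectionVars false
universe u

open TensorProduct

namespace Groth.Agent.H66.CatQuot

noncomputable section

variable {k : Type u} [CommRing k] {A : Type u} [CommRing A] [HopfAlgebra k A]
variable {B : Type u} [CommRing B] [Algebra k B] [HopfRep.Comod k A B] [GLin.IsCoactAlg k A B]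

variable (k A B) in
/-- The action on rings. -/
abbrev coactRH : B →+* B ⊗[k] A := (GLin.coactAlgHom k A B).toRingHom

variable (k A B) in
/-- The projection on rings. -/
abbrev inclRH : B →+* B ⊗[k] A := Algebra.TensorProduct.includeLeftRingHom

/-- Functions whose translates lie in `I`. -/
def core (I : Ideal B) : Ideal B := (I.map (inclRH k A B)).comap (coactRH k A B)

/-- A closed set given by an ideal is invariant. -/
def InvClosed (I : Ideal B) : Prop :=
  ∀ P : PrimeSpectrum (B ⊗[k] A), I ≤ P.asIdeal.comap (inclRH k A B) → I ≤ P.asIdeal.comap (coactRH k A B)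

theorem le_radical_core {I : Ideal B} (hI : InvClosed (k := k) (A := A) I) :
    I ≤ (core (k := k) (A := A) I).radical := by
  intro b hb
  rw [core, ← Ideal.comap_radical, Ideal.mem_comap, Ideal.radical_eq_sInf, Submodule.mem_sInf]
  rintro P ⟨hP, hPp⟩
  exact hI ⟨P, hPp⟩ (Ideal.map_le_iff_le_comap.1 hP) hb

variable (α : A →ₗ[k] B)

local notation "Rey" => TameAct.reynolds k A B B α

theorem rey_mem {I : Ideal B} {b : B} (hb : b ∈ core (k := k) (A := A) I) : Rey b ∈ I := by
  let G : B ⊗[k] A →ₗ[k] B := TensorProduct.lift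
    ((Algebra.lsmul k k B : B →ₐ[k] Module.End k B).toLinearMap ∘ₗ α ∘ₗ
      (HopfAlgebraStruct.antipode (R := k) (A := A))).flip
  suffices h : ∀ z ∈ I.map (inclRH k A B), G z ∈ I from h _ hb
  intro z hz
  suffices h : ∀ w : B ⊗[k] A, G (w * z) ∈ I by simpa using h 1
  rw [Ideal.map] at hz
  induction hz using Submodule.span_induction with
  | mem y hy =>
    obtain ⟨i, hi, rfl⟩ := hy
    intro w
    induction w using TensorProduct.induction_on with
    | zero => simp
    | add p q hp hq => rw [add_mul, map_add]; exact add_mem hp hq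
    | tmul r a =>
      change G (r ⊗ₜ[k] a * i ⊗ₜ[k] (1 : A)) ∈ I
      rw [Algebra.TensorProduct.tmul_mul_tmul, mul_one]
      change α _ * (r * i) ∈ I
      exact I.mul_mem_left _ (I.mul_mem_left _ hi)
  | zero => intro w; simp
  | add p q _ _ hp hq => intro w; rw [mul_add, map_add]; exact add_mem (hp w) (hq w)
  | smul c y _ hy => intro w; rw [smul_eq_mul, ← mul_assoc]; exact hy _

theorem rey_mul_left {f : B} (hf : f ∈ GLin.invariants k A B) (b : B) : Rey (f * b) = f * Rey b := by
  have e : HopfRep.Comod.coact (k := k) (A := A) (f * b) =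
      (f ⊗ₜ[k] (1 : A)) * HopfRep.Comod.coact (k := k) (A := A) b := by
    rw [GLin.IsCoactAlg.coact_mul, (GLin.mem_invariants_iff k A B f).1 hf]
  simp only [TameAct.reynolds, LinearMap.comp_apply, e]
  induction HopfRep.Comod.coact (k := k) (A := A) b using TensorProduct.induction_on with
  | zero => simp
  | add p q hp hq => simp only [mul_add, map_add, hp, hq]
  | tmul r a =>
    rw [Algebra.TensorProduct.tmul_mul_tmul, one_mul]
    change α _ * (f * r) = f * (α _ * r)
    ring

variable {α} (hα : Hoch.IsComodHom A α) (hα1 : α 1 = 1)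
include hα hα1

/-- A prime of the invariants with no prime above it in an invariant closed set is separated from it
by an invariant function. -/
theorem exists_invariant {I : Ideal B} (hI : InvClosed (k := k) (A := A) I)
    (p : Ideal (GLin.invariants k A B)) [p.IsPrime]
    (h : ∀ Q : Ideal B, Q.IsPrime → Q.comap (algebraMap (GLin.invariants k A B) B) = p → ¬ I ≤ Q) :
    ∃ g : GLin.invariants k A B, g ∉ p ∧ (g : B) ∈ I := by
  haveI := Integral.isHopfMod_self (k := k) (A := A) (B := B)
  let C := GLin.invariants k A B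
  let φ := algebraMap C B
  let T : Submonoid B := p.primeCompl.map φ
  let K : Ideal B := core (k := k) (A := A) I ⊔ p.map φ
  by_cases hd : Disjoint (K : Set B) (T : Set B)
  · exfalso
    obtain ⟨Q, hQ, hKQ, hQT⟩ := Ideal.exists_le_prime_disjoint K T hd
    refine h Q hQ (le_antisymm (fun c hc => ?_) ?_) ?_
    · by_contra hcp
      exact Set.disjoint_left.1 hQT hc ⟨c, hcp, rfl⟩
    · exact Ideal.map_le_iff_le_comap.1 (le_sup_right.trans hKQ)
    · exact (le_radical_core hI).trans ((Ideal.radical_mono (le_sup_left.trans hKQ)).trans hQ.radical.le)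
  · obtain ⟨x, hx, c, hc, rfl⟩ := Set.not_disjoint_iff.1 hd
    obtain ⟨β, hβ, y, hy, hxy⟩ := Submodule.mem_sup.1 hx
    have hy' : ∃ z ∈ p, Rey y = φ z := by
      suffices h : ∀ w : B, ∃ z ∈ p, Rey (w * y) = φ z by simpa using h 1
      clear hxy
      rw [Ideal.map] at hy
      induction hy using Submodule.span_induction with
      | mem y hy =>
        obtain ⟨i, hi, rfl⟩ := hy
        exact fun w => ⟨⟨Rey w, Integral.reynolds_mem hα w⟩ * i, p.mul_mem_left _ hi, by
          rw [mul_comm w]; exact (rey_mul_left α i.2 w).trans (mul_comm _ _)⟩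
      | zero => exact fun w => ⟨0, p.zero_mem, by simp⟩
      | add a b _ _ ha hb =>
        intro w
        obtain ⟨z, hz, hz'⟩ := ha w
        obtain ⟨z', hz₁, hz₁'⟩ := hb w
        exact ⟨z + z', p.add_mem hz hz₁, by rw [mul_add, map_add, map_add, hz', hz₁']⟩
      | smul a b _ hb => intro w; rw [smul_eq_mul, ← mul_assoc]; exact hb _
    obtain ⟨z, hz, hz'⟩ := hy'
    have hfix : Rey (φ c) = φ c := Integral.reynolds_eq_self hα1 c.2
    rw [← hxy, map_add, hz'] at hfix
    refine ⟨c - z, fun hmem => hc (by simpa using p.add_mem hmem hz), ?_⟩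
    have e : ((c - z : C) : B) = Rey β := by
      rw [hxy] at hfix
      change φ (c - z) = _
      rw [map_sub, ← hfix, add_sub_cancel_right]
    rw [e]
    exact rey_mem α hβ

/-- Finitely or infinitely many invariant closed sets with empty intersection are separated. -/
theorem exists_invariant_of_iSup {ι : Type*} {I : ι → Ideal B} (hI : ∀ i, InvClosed (k := k) (A := A) (I i))
    (hsup : ⨆ i, I i = ⊤) (p : Ideal (GLin.invariants k A B)) [p.IsPrime] :
    ∃ (i : ι) (g : GLin.invariants k A B), g ∉ p ∧ (g : B) ∈ I i := by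
  haveI := Integral.isHopfMod_self (k := k) (A := A) (B := B)
  by_contra! h
  have h1 : (1 : B) ∈ ⨆ i, core (k := k) (A := A) (I i) := by
    have h2 : (⨆ i, core (k := k) (A := A) (I i)).radical = ⊤ := by
      rw [eq_top_iff, ← hsup]
      exact iSup_le fun i => (le_radical_core (hI i)).trans
        (Ideal.radical_mono (le_iSup (fun i => core (k := k) (A := A) (I i)) i))
    rw [Ideal.radical_eq_top.1 h2]
    trivial
  have key : ∀ b ∈ ⨆ i, core (k := k) (A := A) (I i), ∃ z ∈ p, Rey b = (z : B) := by
    intro b hb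
    induction hb using Submodule.iSup_induction' with
    | mem i b hb =>
      refine ⟨⟨Rey b, Integral.reynolds_mem hα b⟩, ?_, rfl⟩
      by_contra hbp
      exact h i _ hbp (rey_mem α hb)
    | zero => exact ⟨0, p.zero_mem, by simp⟩
    | add a b _ _ ha hb =>
      obtain ⟨z, hz, hz'⟩ := ha
      obtain ⟨z', hz₁, hz₁'⟩ := hb
      exact ⟨z + z', p.add_mem hz hz₁, by rw [map_add, hz', hz₁']; rfl⟩
  obtain ⟨z, hz, hz'⟩ := key 1 h1
  rw [Integral.reynolds_eq_self hα1 (GLin.invariants k A B).one_mem] at hz'
  have : z = 1 := Subtype.ext hz'.symm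
  exact (inferInstance : p.IsPrime).ne_top ((Ideal.eq_top_iff_one p).2 (this ▸ hz))

end

end Groth.Agent.H66.CatQuot
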