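import Mathlib.AlgebraicGeometry.AffineScheme
import Groth.Agent.Lib.SchQuot.Desc

/-!
An affine scheme over the spectrum of the equalizer of two morphisms to it: sections on opens.
(Adapted from the groupoid case.)
-/

universe u

open CategoryTheory AlgebraicGeometry TopologicalSpace Opposite

namespace Groth.Agent.H66.CatQuot

variable {R X Y : Scheme.{u}} {s t : R ⟶ X} {p : X ⟶ Y} (hst : s ≫ p = t ≫ p)
include hst

theorem preimage_eq (V : Y.Opens) : s ⁻¹ᵁ (p ⁻¹ᵁ V) = t ⁻¹ᵁ (p ⁻¹ᵁ V) := by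
  rw [← Scheme.Hom.comp_preimage, ← Scheme.Hom.comp_preimage, hst]

/-- Invariance of a function on the preimage of an open of the quotient. -/
def InvSec (V : Y.Opens) (a : Γ(X, p ⁻¹ᵁ V)) : Prop :=
  (s.appLE (p ⁻¹ᵁ V) (s ⁻¹ᵁ (p ⁻¹ᵁ V)) le_rfl).hom a =
    (t.appLE (p ⁻¹ᵁ V) (s ⁻¹ᵁ (p ⁻¹ᵁ V)) (preimage_eq hst V).le).hom a

theorem InvSec.res {V V' : Y.Opens} (h : V' ≤ V) {a : Γ(X, p ⁻¹ᵁ V)} (ha : InvSec hst V a) :
    InvSec hst V' ((X.presheaf.map (homOfLE (p.preimage_mono h)).op).hom a) := by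
  have := congrArg (R.presheaf.map (homOfLE (s.preimage_mono (p.preimage_mono h))).op).hom ha
  simp only [InvSec, ← CommRingCat.comp_apply, Scheme.Hom.map_appLE, Scheme.Hom.appLE_map] at this ⊢
  exact this

omit hst

/-- An equalizer on global functions. -/
structure IsEqualizer (s t : R ⟶ X) (p : X ⟶ Y) : Prop where
  w : s ≫ p = t ≫ p
  inj : Function.Injective p.appTop.hom
  range : ∀ a, s.appTop.hom a = t.appTop.hom a → ∃ x, p.appTop.hom x = a

variable (E : IsEqualizer s t p) [IsAffine R] [IsAffine X] [IsAffine Y]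

theorem exists_basic {V : Y.Opens} {y : Y} (hy : y ∈ V) :
    ∃ c : Γ(Y, ⊤), y ∈ Y.basicOpen c ∧ Y.basicOpen c ≤ V := by
  obtain ⟨f, hf, hy⟩ := (isAffineOpen_top Y).exists_basicOpen_le (⟨y, hy⟩ : V) (Set.mem_univ y)
  exact ⟨f, hy, hf⟩

section Basic

/-- Localizing an equalizer of ring maps. -/
theorem localized_equalizer {C A B : Type u} [CommRing C] [CommRing A] [CommRing B] (f : C)
    (q : C →+* A) (hq : Function.Injective q) (σ τ : A →+* B)
    (hrange : ∀ a, σ a = τ a → ∃ x, q x = a) (hqst : ∀ x, σ (q x) = τ (q x))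
    {C' A' B' : Type u} [CommRing C'] [CommRing A'] [CommRing B']
    (lC : C →+* C') (lA : A →+* A') (lB : B →+* B')
    (hC : @IsLocalization.Away C _ f C' _ lC.toAlgebra)
    (hA : @IsLocalization.Away A _ (q f) A' _ lA.toAlgebra)
    (hB : @IsLocalization.Away B _ (σ (q f)) B' _ lB.toAlgebra)
    (q' : C' →+* A') (σ' τ' : A' →+* B') (h1 : ∀ x, q' (lC x) = lA (q x))
    (h2 : ∀ x, σ' (lA x) = lB (σ x)) (h3 : ∀ x, τ' (lA x) = lB (τ x)) :
    Function.Injective q' ∧ ∀ a, σ' a = τ' a → a ∈ Set.range q' := by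
  let _ := lC.toAlgebra
  let _ := lA.toAlgebra
  let _ := lB.toAlgebra
  have hu : IsUnit (lC f) := IsLocalization.Away.algebraMap_isUnit (S := C') f
  refine ⟨(injective_iff_map_eq_zero q').2 fun y hy => ?_, fun a ha => ?_⟩
  · obtain ⟨⟨x, ⟨_, n, rfl⟩⟩, hx⟩ := IsLocalization.surj (Submonoid.powers f) y
    replace hx : y * lC (f ^ n) = lC x := hx
    have h0 : algebraMap A A' (q x) = 0 := by
      change lA (q x) = 0
      rw [← h1, ← hx, map_mul, hy, zero_mul]
    obtain ⟨⟨_, m, rfl⟩, hm⟩ := (IsLocalization.map_eq_zero_iff (Submonoid.powers (q f)) _ _).1 h0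
    have hx0 : f ^ m * x = 0 := hq (by rw [map_mul, map_pow, map_zero]; exact hm)
    have key : lC f ^ (m + n) * y = 0 := by
      rw [pow_add, mul_assoc, mul_comm _ y, ← map_pow lC f n, hx, ← map_pow, ← map_mul, hx0, map_zero]
    exact (hu.pow (m + n)).mul_right_eq_zero.1 key
  · obtain ⟨⟨b, ⟨_, n, rfl⟩⟩, hb⟩ := IsLocalization.surj (Submonoid.powers (q f)) a
    replace hb : a * lA (q f ^ n) = lA b := hb
    have e : algebraMap B B' (σ b) = algebraMap B B' (τ b) := by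
      change lB (σ b) = lB (τ b)
      rw [← h2, ← h3, ← hb, map_mul, map_mul, ← ha, h2, h3]
      simp only [map_pow, hqst]
    obtain ⟨⟨_, m, rfl⟩, hm⟩ := (IsLocalization.eq_iff_exists (Submonoid.powers (σ (q f))) _).1 e
    replace hm : σ (q f) ^ m * σ b = σ (q f) ^ m * τ b := hm
    obtain ⟨x, hx⟩ := hrange (q f ^ m * b) (by rw [map_mul, map_mul, map_pow, map_pow, hm, hqst])
    obtain ⟨v, hv⟩ := hu.pow (m + n)
    refine ⟨lC x * ↑v⁻¹, ((v.isUnit.map q').mul_left_inj).1 ?_⟩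
    rw [← map_mul, Units.inv_mul_cancel_right, hv, h1, hx, map_mul, ← hb, map_pow q', h1, map_pow lA,
      map_pow lA, pow_add]
    ring

include E

theorem app_basicOpen (c : Γ(Y, ⊤)) :
    Function.Injective (p.app (Y.basicOpen c)).hom ∧
      ∀ a, InvSec E.w (Y.basicOpen c) a → a ∈ Set.range (p.app (Y.basicOpen c)).hom := by
  refine localized_equalizer c p.appTop.hom E.inj s.appTop.hom t.appTop.hom E.range
    (fun x => ?_) (Y.presheaf.map (homOfLE (le_top : Y.basicOpen c ≤ ⊤)).op).hom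
    (X.presheaf.map (homOfLE (le_top : p ⁻¹ᵁ Y.basicOpen c ≤ ⊤)).op).hom
    (R.presheaf.map (homOfLE (le_top : s ⁻¹ᵁ (p ⁻¹ᵁ Y.basicOpen c) ≤ ⊤)).op).hom ?_ ?_ ?_
    (p.app (Y.basicOpen c)).hom (s.appLE (p ⁻¹ᵁ Y.basicOpen c) _ le_rfl).hom
    (t.appLE (p ⁻¹ᵁ Y.basicOpen c) _ (preimage_eq E.w _).le).hom ?_ ?_ ?_
  · change (p.appTop ≫ s.appTop).hom x = (p.appTop ≫ t.appTop).hom x
    rw [← Scheme.Hom.comp_appTop, ← Scheme.Hom.comp_appTop]
    simp only [E.w]
  · exact (isAffineOpen_top Y).isLocalization_of_eq_basicOpen _ (homOfLE le_top) rfl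
  · exact (isAffineOpen_top X).isLocalization_of_eq_basicOpen _ (homOfLE le_top) (Scheme.preimage_basicOpen p c)
  · refine (isAffineOpen_top R).isLocalization_of_eq_basicOpen _ (homOfLE le_top) ?_
    rw [Scheme.preimage_basicOpen p c]
    exact Scheme.preimage_basicOpen s _
  · exact fun x => congr($((p.naturality (homOfLE (le_top : Y.basicOpen c ≤ ⊤)).op)) x)
  · intro z
    change (X.presheaf.map _ ≫ s.appLE _ _ _) z = (s.appTop ≫ R.presheaf.map _) z
    rw [Scheme.Hom.map_appLE]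
    rfl
  · intro z
    change (X.presheaf.map _ ≫ t.appLE _ _ _) z = (t.appTop ≫ R.presheaf.map _) z
    rw [Scheme.Hom.map_appLE]
    rfl

theorem injective_app (V : Y.Opens) : Function.Injective (p.app V).hom := by
  intro y y' h
  refine TopCat.Sheaf.eq_of_locally_eq' Y.sheaf (fun c : {c : Γ(Y, ⊤) // Y.basicOpen c ≤ V} => Y.basicOpen c.1) V
    (fun c => homOfLE c.2) (fun y hy => ?_) _ _ fun c => (app_basicOpen E c.1).1 ?_
  · obtain ⟨c, hc, hcV⟩ := exists_basic hy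
    exact Opens.mem_iSup.2 ⟨⟨c, hcV⟩, hc⟩
  · change (Y.presheaf.map _ ≫ p.app _) y = (Y.presheaf.map _ ≫ p.app _) y'
    rw [p.naturality]
    exact congrArg (X.presheaf.map _).hom h

end Basic

/-- Being in the image of the functions of the target is local on the target. -/
theorem range_of_cover {X Y : Scheme.{u}} (q : X ⟶ Y) (hinj : ∀ V, Function.Injective (q.app V).hom)
    {ι : Type u} (O : ι → Y.Opens) {V : Y.Opens} (hO : ∀ i, O i ≤ V) (hcov : ∀ v ∈ V, ∃ i, v ∈ O i)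
    (a : Γ(X, q ⁻¹ᵁ V)) (ha : ∀ i, (X.presheaf.map (homOfLE (q.preimage_mono (hO i))).op).hom a ∈
      Set.range (q.app (O i)).hom) :
    a ∈ Set.range (q.app V).hom := by
  choose y hy using ha
  have hnat : ∀ {V' V'' : Y.Opens} (h : V' ≤ V'') (z : Γ(Y, V'')),
      (q.app V').hom ((Y.presheaf.map (homOfLE h).op).hom z) =
        (X.presheaf.map (homOfLE (q.preimage_mono h)).op).hom ((q.app V'').hom z) := fun h z =>
    congr($(q.naturality (homOfLE h).op) z)
  obtain ⟨z, hz, -⟩ := TopCat.Sheaf.existsUnique_gluing' Y.sheaf O V (fun i => homOfLE (hO i))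
    (fun x hx => Opens.mem_iSup.2 (hcov x hx)) y (fun i i' => hinj _ (by
      change (q.app _).hom ((Y.presheaf.map _).hom (y i)) = (q.app _).hom ((Y.presheaf.map _).hom (y i'))
      erw [hnat inf_le_left, hnat inf_le_right, hy, hy]
      rw [← CommRingCat.comp_apply, ← CommRingCat.comp_apply, ← Functor.map_comp, ← Functor.map_comp]
      rfl))
  refine ⟨z, TopCat.Sheaf.eq_of_locally_eq' X.sheaf (fun i => q ⁻¹ᵁ O i) _
    (fun i => homOfLE (q.preimage_mono (hO i))) (fun x hx => Opens.mem_iSup.2 (hcov (q x) hx)) _ _ fun i => ?_⟩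
  exact ((hnat (hO i) z).symm.trans (congrArg (q.app (O i)).hom (hz i))).trans (hy i)

include E in
theorem range_app {V : Y.Opens} {a : Γ(X, p ⁻¹ᵁ V)} (ha : InvSec E.w V a) :
    a ∈ Set.range (p.app V).hom :=
  range_of_cover p (injective_app E) (fun c : {c : Γ(Y, ⊤) // Y.basicOpen c ≤ V} => Y.basicOpen c.1) (fun c => c.2)
    (fun _ hx => let ⟨c, hc, hcV⟩ := exists_basic hx; ⟨⟨c, hcV⟩, hc⟩) a
    (fun c => (app_basicOpen E c.1).2 _ (InvSec.res E.w c.2 ha))

end Groth.Agent.H66.CatQuot
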