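import Groth.Agent.H66.CatQuot.Core
import Groth.Agent.H66.CatQuot.Sec
import Mathlib.AlgebraicGeometry.Cover.Open
import Mathlib.AlgebraicGeometry.Properties

/-!
The spectrum of the invariants is a categorical quotient when there is a total integral.
-/

set_option autoImplicit false
universe u

open CategoryTheory AlgebraicGeometry TopologicalSpace Opposite
open scoped TensorProduct

namespace Groth.Agent.H66.CatQuot

noncomputable section

variable {k : Type u} [CommRing k] {A : Type u} [CommRing A] [HopfAlgebra k A]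
variable {B : Type u} [CommRing B] [Algebra k B] [HopfRep.Comod k A B] [GLin.IsCoactAlg k A B]

variable (k A B) in
abbrev pMap : Spec (CommRingCat.of B) ⟶ Spec (CommRingCat.of (GLin.invariants k A B)) :=
  Spec.map (CommRingCat.ofHom (algebraMap (GLin.invariants k A B) B))

variable (k A B) in
abbrev sMap : Spec (CommRingCat.of (B ⊗[k] A)) ⟶ Spec (CommRingCat.of B) :=
  Spec.map (CommRingCat.ofHom (coactRH k A B))

variable (k A B) in
abbrev tMap : Spec (CommRingCat.of (B ⊗[k] A)) ⟶ Spec (CommRingCat.of B) :=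
  Spec.map (CommRingCat.ofHom (inclRH k A B))

theorem sMap_pMap : sMap k A B ≫ pMap k A B = tMap k A B ≫ pMap k A B := by
  rw [← Spec.map_comp, ← Spec.map_comp]
  congr 1
  ext c
  exact (GLin.mem_invariants_iff k A B _).1 c.2

theorem isEqualizer : IsEqualizer (sMap k A B) (tMap k A B) (pMap k A B) := by
  have nat : ∀ {P Q : CommRingCat.{u}} (f : P ⟶ Q) (a : Γ(Spec P, ⊤)),
      (Scheme.ΓSpecIso Q).hom ((Spec.map f).appTop a) = f ((Scheme.ΓSpecIso P).hom a) := fun f a =>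
    congr($(Scheme.ΓSpecIso_naturality f) a)
  have inj : ∀ (P : CommRingCat.{u}), Function.Injective (Scheme.ΓSpecIso P).hom := fun P =>
    (ConcreteCategory.bijective_of_isIso (Scheme.ΓSpecIso P).hom).1
  refine ⟨sMap_pMap, fun a a' h => ?_, fun a h => ?_⟩
  · refine inj _ ?_
    have := congrArg (Scheme.ΓSpecIso _).hom h
    rw [nat, nat] at this
    exact Subtype.ext this
  · have h' := congrArg (Scheme.ΓSpecIso _).hom h
    rw [nat, nat] at h'
    obtain ⟨x, hx⟩ := (ConcreteCategory.bijective_of_isIso (Scheme.ΓSpecIso (CommRingCat.of (GLin.invariants k A B))).hom).2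
      ⟨(Scheme.ΓSpecIso (CommRingCat.of B)).hom a, (GLin.mem_invariants_iff k A B _).2 h'⟩
    refine ⟨x, inj _ ?_⟩
    rw [nat, hx]
    rfl

/-- The underlying set of an open of the spectrum. -/
def pset (U : (Spec (CommRingCat.of B)).Opens) : Set (PrimeSpectrum B) := U.1

omit [Algebra k B] [HopfRep.Comod k A B] [GLin.IsCoactAlg k A B] in
theorem zeroLocus_compl (U : (Spec (CommRingCat.of B)).Opens) (Q : PrimeSpectrum B) :
    PrimeSpectrum.vanishingIdeal (pset U)ᶜ ≤ Q.asIdeal ↔ Q ∉ pset U := by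
  have hc : IsClosed ((pset U)ᶜ) := (U.2 : IsOpen (pset U)).isClosed_compl
  have h1 : Q ∈ PrimeSpectrum.zeroLocus ((PrimeSpectrum.vanishingIdeal (pset U)ᶜ : Ideal B) : Set B) ↔
      Q ∉ pset U := by
    rw [PrimeSpectrum.zeroLocus_vanishingIdeal_eq_closure, hc.closure_eq]
    exact Iff.rfl
  exact h1

/-- An open with the same preimages by action and projection. -/
theorem invClosed_vanishingIdeal (U : (Spec (CommRingCat.of B)).Opens)
    (hU : sMap k A B ⁻¹ᵁ U = tMap k A B ⁻¹ᵁ U) :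
    InvClosed (k := k) (A := A) (PrimeSpectrum.vanishingIdeal (pset U)ᶜ) := by
  intro P hP
  have h1 := (zeroLocus_compl U (PrimeSpectrum.comap (inclRH k A B) P)).1 hP
  refine (zeroLocus_compl U (PrimeSpectrum.comap (coactRH k A B) P)).2 fun h => h1 ?_
  have h2 : (show Spec (CommRingCat.of (B ⊗[k] A)) from P) ∈ sMap k A B ⁻¹ᵁ U := h
  rw [hU] at h2
  exact h2

variable {α : A →ₗ[k] B} (hα : Hoch.IsComodHom A α) (hα1 : α 1 = 1)
include hα hα1

theorem isQuotientMap_pMap : Topology.IsQuotientMap (pMap k A B) := by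
  have hs : Function.Surjective (pMap k A B) := by
    intro x
    by_contra! h
    obtain ⟨g, hg, hg0⟩ := exists_invariant (k := k) (A := A) hα hα1 (I := ⊥)
      (fun P _ => bot_le) (x : PrimeSpectrum (GLin.invariants k A B)).asIdeal (fun Q hQ hQx _ => h ⟨Q, hQ⟩ (PrimeSpectrum.ext hQx))
    exact hg (by rw [show g = 0 from Subtype.ext ((Submodule.mem_bot B).1 hg0)]; exact zero_mem _)
  refine (Topology.isQuotientMap_iff _).2 ⟨Topology.isCoinducing_iff.2 fun U => ⟨fun h => ?_, fun h => h.preimage (pMap k A B).continuous⟩, hs⟩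
  refine isOpen_iff_forall_mem_open.2 fun x hx => ?_
  let W : (Spec (CommRingCat.of B)).Opens := ⟨(pMap k A B) ⁻¹' U, h⟩
  have hW : sMap k A B ⁻¹ᵁ W = tMap k A B ⁻¹ᵁ W := by
    refine Opens.ext (Set.ext fun z => ?_)
    change (pMap k A B) ((sMap k A B) z) ∈ U ↔ (pMap k A B) ((tMap k A B) z) ∈ U
    rw [← Scheme.Hom.comp_apply, ← Scheme.Hom.comp_apply, sMap_pMap]
  obtain ⟨g, hg, hgI⟩ := exists_invariant (k := k) (A := A) hα hα1 (invClosed_vanishingIdeal W hW)
    (x : PrimeSpectrum (GLin.invariants k A B)).asIdeal (fun Q hQ hQx hle => by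
      refine (zeroLocus_compl W ⟨Q, hQ⟩).1 hle ?_
      change (pMap k A B) (⟨Q, hQ⟩ : PrimeSpectrum B) ∈ U
      convert hx using 1
      exact PrimeSpectrum.ext hQx)
  refine ⟨((PrimeSpectrum.basicOpen g : Opens (PrimeSpectrum (GLin.invariants k A B))) : Set (PrimeSpectrum (GLin.invariants k A B))),
    fun y hy => ?_, (PrimeSpectrum.basicOpen g).isOpen, hg⟩
  obtain ⟨z, rfl⟩ := hs y
  by_contra hz
  exact hy ((PrimeSpectrum.mem_vanishingIdeal _ _).1 hgI z hz)

theorem exists_basicOpen {Z : Scheme.{u}} (ψ : Spec (CommRingCat.of B) ⟶ Z) (hψ : sMap k A B ≫ ψ = tMap k A B ≫ ψ)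
    (x : Spec (CommRingCat.of (GLin.invariants k A B))) :
    ∃ (D : (Spec (CommRingCat.of (GLin.invariants k A B))).Opens) (U : Z.Opens),
      IsAffineOpen U ∧ x ∈ D ∧ pMap k A B ⁻¹ᵁ D ≤ ψ ⁻¹ᵁ U := by
  let ι := {U : Z.Opens // IsAffineOpen U}
  let I : ι → Ideal B := fun i => PrimeSpectrum.vanishingIdeal (pset (ψ ⁻¹ᵁ i.1))ᶜ
  have hI : ∀ i, InvClosed (k := k) (A := A) (I i) := fun i => invClosed_vanishingIdeal _ (by
    rw [← Scheme.Hom.comp_preimage, ← Scheme.Hom.comp_preimage, hψ])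
  have hsup : ⨆ i, I i = ⊤ := by
    by_contra hne
    obtain ⟨Q, hQ, hle⟩ := Ideal.exists_le_maximal _ hne
    obtain ⟨U, hU, hQU⟩ : ∃ U : Z.Opens, IsAffineOpen U ∧ ψ (⟨Q, hQ.isPrime⟩ : PrimeSpectrum B) ∈ U := by
      obtain ⟨U, hU, hxU, -⟩ := exists_isAffineOpen_mem_and_subset (X := Z) (x := ψ (⟨Q, hQ.isPrime⟩ : PrimeSpectrum B))
        (U := ⊤) trivial
      exact ⟨U, hU, hxU⟩
    exact (zeroLocus_compl (ψ ⁻¹ᵁ U) ⟨Q, hQ.isPrime⟩).1 ((le_iSup I ⟨U, hU⟩).trans hle) hQU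
  obtain ⟨i, g, hg, hgI⟩ := exists_invariant_of_iSup (k := k) (A := A) hα hα1 hI hsup
    (x : PrimeSpectrum (GLin.invariants k A B)).asIdeal
  refine ⟨PrimeSpectrum.basicOpen g, i.1, i.2, hg, fun z hz => ?_⟩
  by_contra hzU
  exact hz ((PrimeSpectrum.mem_vanishingIdeal _ _).1 hgI z hzU)

theorem existsUnique_desc {Z : Scheme.{u}} (ψ : Spec (CommRingCat.of B) ⟶ Z)
    (hψ : sMap k A B ≫ ψ = tMap k A B ≫ ψ) :
    ∃! χ : Spec (CommRingCat.of (GLin.invariants k A B)) ⟶ Z, pMap k A B ≫ χ = ψ := by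
  let E := isEqualizer (k := k) (A := A) (B := B)
  have hsec : ∀ (W : Z.Opens) (U : (Spec (CommRingCat.of (GLin.invariants k A B))).Opens)
      (e : pMap k A B ⁻¹ᵁ U ≤ ψ ⁻¹ᵁ W) (σ : Γ(Z, W)),
      (ψ.appLE W (pMap k A B ⁻¹ᵁ U) e).hom σ ∈ Set.range ((pMap k A B).app U).hom := by
    intro W U e σ
    refine range_app E ?_
    change ((ψ.appLE W _ e) ≫ (sMap k A B).appLE _ _ _).hom σ = ((ψ.appLE W _ e) ≫ (tMap k A B).appLE _ _ _).hom σ
    rw [Scheme.Hom.appLE_comp_appLE, Scheme.Hom.appLE_comp_appLE]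
    simp only [hψ]
  refine Lib.SchQuot.Desc.existsUnique_desc (pMap k A B) (isQuotientMap_pMap hα hα1) (injective_app E) ψ
    (fun z z' hzz' => ?_) hsec
  obtain ⟨D, U, hU, hxD, hDU⟩ := exists_basicOpen hα hα1 ψ hψ (pMap k A B z)
  have hz : z ∈ pMap k A B ⁻¹ᵁ D := hxD
  have hz' : z' ∈ pMap k A B ⁻¹ᵁ D := show pMap k A B z' ∈ D from hzz' ▸ hxD
  have key : ∀ f : Γ(Z, U), (ψ z ∈ Z.basicOpen f ↔ ψ z' ∈ Z.basicOpen f) := by
    intro f
    obtain ⟨c, hc⟩ := hsec U D hDU f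
    have e : ∀ w, w ∈ pMap k A B ⁻¹ᵁ D →
        (ψ w ∈ Z.basicOpen f ↔ pMap k A B w ∈ (Spec (CommRingCat.of (GLin.invariants k A B))).basicOpen c) := by
      intro w hw
      have h1 : (Spec (CommRingCat.of B)).basicOpen ((ψ.appLE U _ hDU).hom f) =
          pMap k A B ⁻¹ᵁ D ⊓ ψ ⁻¹ᵁ Z.basicOpen f := Scheme.basicOpen_appLE ψ _ _ hDU f
      rw [← hc] at h1
      have h2 := Scheme.preimage_basicOpen (pMap k A B) c
      constructor
      · intro h
        have : w ∈ pMap k A B ⁻¹ᵁ D ⊓ ψ ⁻¹ᵁ Z.basicOpen f := ⟨hw, h⟩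
        rw [← h1, ← h2] at this
        exact this
      · intro h
        have : w ∈ pMap k A B ⁻¹ᵁ (Spec (CommRingCat.of (GLin.invariants k A B))).basicOpen c := h
        rw [h2, h1] at this
        exact this.2
    rw [e z hz, e z' hz', hzz']
  refine Inseparable.eq ((inseparable_iff_forall_isOpen).2 fun O hO => ?_)
  have hzU : ψ z ∈ U := hDU hz
  have hzU' : ψ z' ∈ U := hDU hz'
  constructor
  · intro h
    obtain ⟨f, hf, hzf⟩ := hU.exists_basicOpen_le (V := ⟨O, hO⟩) ⟨ψ z, h⟩ hzU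
    exact hf ((key f).1 hzf)
  · intro h
    obtain ⟨f, hf, hzf⟩ := hU.exists_basicOpen_le (V := ⟨O, hO⟩) ⟨ψ z', h⟩ hzU'
    exact hf ((key f).2 hzf)

end

end Groth.Agent.H66.CatQuot
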